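import Cfsg.Agent.H561.D4.Boxes
import Cfsg.Agent.H561.D4.Four

/-!
# S4311, the row `PΩ₈⁺(q)`: at most four Hall subgroups over a Sylow `2`-subgroup (helper561)
-/

set_option autoImplicit false
set_option linter.unusedSectionVars false

namespace Cfsg.Agent.H561.D4

open Cfsg Subgroup Cfsg.Agent.H561.RV
open scoped Pointwise

universe u

section count

variable {S : Type u} [Group S] [Finite S]

/-- the pull back of a Sylow subgroup of `S` contained in `H` -/
theorem exists_sylow_in {P : Sylow 2 S} {H : Subgroup S} (hPH : (P : Subgroup S) ≤ H) :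
    ∃ R : Sylow 2 H, (R : Subgroup H) = (P : Subgroup S).subgroupOf H := by
  have h1 : IsPGroup 2 ((P : Subgroup S).subgroupOf H) :=
    P.isPGroup'.comap_of_injective H.subtype H.subtype_injective
  have h2 : ¬ 2 ∣ ((P : Subgroup S).subgroupOf H).index := by
    intro h
    have h3 := (P : Subgroup S).relIndex_mul_index hPH
    exact P.not_dvd_index (h3 ▸ h.mul_right _)
  exact ⟨h1.toSylow h2, rfl⟩

/-- **three overgroups centralising `z` and one not** -/
theorem exists_three {P : Sylow 2 S} {z : S} (hz1 : z ≠ 1) (hzP : z ∈ P) (hN : (MN (P : Subgroup S) z).encard ≤ 1)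
    {H : Subgroup S} (hPH : (P : Subgroup S) ≤ H) (hc : Subgroup.center H = ⊥) (hD : BoxD1 H) :
    ∃ T : Finset (Subgroup S), T.card = 3 ∧ (T : Set (Subgroup S)) ⊆ MZ (P : Subgroup S) z ∧
      H = sSup (MN (P : Subgroup S) z) ⊔ sSup (T : Set (Subgroup S)) := by
  classical
  obtain ⟨R, hR⟩ := exists_sylow_in hPH
  obtain ⟨M, hMi, hRM, hM3, hMt⟩ := hD R
  let M' : Fin 4 → Subgroup S := fun i => (M i).map H.subtype
  have hM'i : Function.Injective M' := fun i j h => hMi (Subgroup.map_injective H.subtype_injective h)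
  have hR' : (R : Subgroup H).map H.subtype = (P : Subgroup S) := by
    rw [hR, subgroupOf_map_subtype, inf_of_le_left hPH]
  have hP' : ∀ i, (P : Subgroup S) ≤ M' i := fun i => by
    rw [← hR']
    exact Subgroup.map_mono (hRM i)
  have h3' : ∀ i, (P : Subgroup S).relIndex (M' i) = 3 := fun i => by
    rw [← hR', ← hM3 i]
    exact Subgroup.relIndex_map_map_of_injective _ _ H.subtype_injective
  have hsup : ⨆ i, M' i = H := by
    have h1 : (⨆ i, M i).map H.subtype = ⨆ i, M' i := Subgroup.map_iSup _ _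
    rw [← h1, hMt, ← MonoidHom.range_eq_map, H.range_subtype]
  have hdich : ∀ i, M' i ∈ MZ (P : Subgroup S) z ∨ M' i ∈ MN (P : Subgroup S) z := fun i => by
    by_cases h : ∀ m ∈ M' i, m * z = z * m
    · exact Or.inl ⟨hP' i, h3' i, h⟩
    · exact Or.inr ⟨hP' i, h3' i, h⟩
  -- some `M' i` is not in the centraliser of `z`
  have hex : ∃ i, M' i ∈ MN (P : Subgroup S) z := by
    by_contra hne
    push Not at hne
    have h1 : ∀ i, ∀ m ∈ M' i, m * z = z * m := fun i => ((hdich i).resolve_right (hne i)).2.2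
    have h2 : H ≤ Subgroup.centralizer ({z} : Set S) := by
      rw [← hsup, iSup_le_iff]
      intro i m hm
      rw [Subgroup.mem_centralizer_iff]
      intro y hy
      rw [Set.mem_singleton_iff.1 hy]
      exact (h1 i m hm).symm
    have h3 : (⟨z, hPH hzP⟩ : H) ∈ Subgroup.center H := by
      rw [Subgroup.mem_center_iff]
      intro g
      apply Subtype.ext
      exact ((Subgroup.mem_centralizer_iff.1 (h2 g.2)) z rfl).symm
    rw [hc, Subgroup.mem_bot] at h3
    exact hz1 (congrArg Subtype.val h3)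
  obtain ⟨i₀, hi₀⟩ := hex
  have huniq : ∀ X ∈ MN (P : Subgroup S) z, X = M' i₀ := by
    intro X hX
    have := Set.encard_le_one_iff.1 hN
    exact this X (M' i₀) hX hi₀
  refine ⟨(Finset.univ.erase i₀).image M', ?_, ?_, ?_⟩
  · rw [Finset.card_image_of_injective _ hM'i, Finset.card_erase_of_mem (Finset.mem_univ _)]
    rfl
  · intro X hX
    rw [Finset.mem_coe, Finset.mem_image] at hX
    obtain ⟨i, hi, rfl⟩ := hX
    refine (hdich i).resolve_right fun h => ?_
    exact (Finset.ne_of_mem_erase hi) (hM'i (huniq _ h))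
  · apply le_antisymm
    · conv_lhs => rw [← hsup]
      rw [iSup_le_iff]
      intro i
      by_cases hi : i = i₀
      · rw [hi]
        exact le_sup_of_le_left (le_sSup hi₀)
      · refine le_sup_of_le_right (le_sSup ?_)
        rw [Finset.mem_coe, Finset.mem_image]
        exact ⟨i, Finset.mem_erase.2 ⟨hi, Finset.mem_univ _⟩, rfl⟩
    · refine sup_le (sSup_le fun X hX => ?_) (sSup_le fun X hX => ?_)
      · rw [huniq X hX, ← hsup]
        exact le_iSup M' i₀
      · rw [Finset.mem_coe, Finset.mem_image] at hX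
        obtain ⟨i, -, rfl⟩ := hX
        rw [← hsup]
        exact le_iSup M' i

/-- **at most four subgroups** -/
theorem ncard_le_four {P : Sylow 2 S} {z : S} (hz1 : z ≠ 1) (hzP : z ∈ P) (hZ : (MZ (P : Subgroup S) z).encard ≤ 4)
    (hN : (MN (P : Subgroup S) z).encard ≤ 1) {𝓗 : Set (Subgroup S)}
    (h𝓗 : ∀ H ∈ 𝓗, (P : Subgroup S) ≤ H ∧ Subgroup.center H = ⊥ ∧ BoxD1 H) : 𝓗.ncard ≤ 4 := by
  classical
  have hfin : (MZ (P : Subgroup S) z).Finite := Set.toFinite _
  have hex : ∀ H ∈ 𝓗, ∃ T : Finset (Subgroup S), T.card = 3 ∧ (T : Set (Subgroup S)) ⊆ MZ (P : Subgroup S) z ∧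
      H = sSup (MN (P : Subgroup S) z) ⊔ sSup (T : Set (Subgroup S)) := fun H hH =>
    exists_three hz1 hzP hN (h𝓗 H hH).1 (h𝓗 H hH).2.1 (h𝓗 H hH).2.2
  choose! f hf3 hfZ hfe using hex
  have hcard : hfin.toFinset.card ≤ 4 := by
    have h1 := hfin.encard_eq_coe_toFinset_card
    rw [h1] at hZ
    exact_mod_cast hZ
  have h1 : 𝓗.ncard ≤ ((↑(Finset.powersetCard 3 hfin.toFinset) : Set (Finset (Subgroup S)))).ncard := by
    refine Set.ncard_le_ncard_of_injOn f ?_ ?_ (Finset.finite_toSet _)
    · intro H hH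
      rw [Finset.mem_coe, Finset.mem_powersetCard]
      refine ⟨fun X hX => ?_, hf3 H hH⟩
      rw [Set.Finite.mem_toFinset]
      exact hfZ H hH hX
    · intro H hH K hK he
      rw [hfe H hH, hfe K hK, he]
  refine h1.trans ?_
  rw [Set.ncard_coe_finset, Finset.card_powersetCard]
  exact (Nat.choose_le_choose 3 hcard).trans (by decide)

end count

end Cfsg.Agent.H561.D4
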