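import Cfsg.Agent.H561.D4.FinalA
import Cfsg.Agent.H294.D4.C2

/-!
# S4311, the row `PΩ₈⁺(q)` (helper561)
-/

set_option autoImplicit false

namespace Cfsg.Agent.H561.D4

open Cfsg Subgroup Cfsg.Agent.H561.RV

universe u

/-- **the `S`-row of `PΩ₈⁺(q)`** -/
theorem srow_d4 (hK : ∀ (T : Type) [Group T] [Finite T] [IsSimpleGroup T], IsKnownSimple' T)
    {S : Type u} [Group S] {π : Set ℕ} (h2π : 2 ∈ π) (h3π : 3 ∈ π) {p : ℕ} (hp : p.Prime) (hpπ : p ∉ π) {F : Type}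
    [Field F] [Finite F] [CharP F p] (e : S ≃* Cfsg.POmega F (Cfsg.quadFormPlus 4 F)) : SRow π S := by
  have hp5 : 5 ≤ p := by
    have h4 : p ≠ 2 := by rintro rfl; exact hpπ h2π
    have h5 : p ≠ 3 := by rintro rfl; exact hpπ h3π
    have h6 : p ≠ 4 := by rintro rfl; exact absurd hp (by norm_num)
    have := hp.two_le
    omega
  exact srow_d4_of h2π h3π hp hpπ (H294.D4.boxC2_of hK hp5) e

end Cfsg.Agent.H561.D4
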