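import Cfsg.Agent.H561.D4.Boxes
import Cfsg.Agent.H561.D4.Four
import Cfsg.Agent.OddOrderLocal.HallPi

/-!
# S4311, the row `PΩ₈⁺(q)`: Hall subgroups with `O₂ ≠ 1` have an invariant class (helper561)
-/

set_option autoImplicit false
set_option linter.unusedSectionVars false

namespace Cfsg.Agent.H561.D4

open Module QuadraticMap Cfsg.Agent.H167.OP Cfsg.Agent.H170.HL Cfsg.Agent.H170.HL.OmRow Cfsg.Agent.H556.Om
open Cfsg Subgroup Cfsg.Agent.H485.RV Cfsg.Agent.H561.RV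
open scoped Pointwise

universe u

variable {F : Type} [Field F] [Finite F] {ι : Type} [Fintype ι] [DecidableEq ι] {Q : QuadraticForm F (ι → F)}
  {S : Type u} [Group S] [Finite S] {π : Set ℕ}

/-- the preimage of a Hall subgroup satisfies `HD` -/
theorem hd_of_hall (hq : Q8 Q) (hN : BoxN Q) {p : ℕ} [CharP F p] (hp : p.Prime) (hpπ : p ∉ π) (h2π : 2 ∈ π)
    (h3π : 3 ∈ π) (e : S ≃* Cfsg.POmega F (⇑Q)) {H : Subgroup S} (hH : IsPiHall π H) : HD (H.comap (pr e)) := by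
  have hfin : Finite (Cfsg.Omega F (⇑Q)) := inferInstance
  have hK := hall_comap hq.gq e h2π hH
  obtain ⟨a, b, ha, hb, h2, h3, -⟩ := hN
  have hG0 : Nat.card (Cfsg.Omega F (⇑Q)) ≠ 0 := Nat.card_pos.ne'
  have d2 : 2 ∣ Nat.card (Cfsg.Omega F (⇑Q)) :=
    (Nat.dvd_of_factorization_pos (by rw [h2]; omega))
  have d3 : 3 ∣ Nat.card (Cfsg.Omega F (⇑Q)) :=
    (Nat.dvd_of_factorization_pos (by rw [h3]; omega))
  have hci := (H.comap (pr e)).card_mul_index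
  refine ⟨hq, ?_, ?_, ?_, ?_, ?_⟩
  · intro h0
    rw [CharP.cast_eq_zero_iff F p] at h0
    exact hpπ (hK.1 p hp h0)
  · rw [Nat.coprime_iff_gcd_eq_one]
    by_contra hne
    obtain ⟨r, hr, hd⟩ := Nat.exists_prime_and_dvd hne
    exact hK.2 r hr (hK.1 r hr (hd.trans (Nat.gcd_dvd_left _ _))) (hd.trans (Nat.gcd_dvd_right _ _))
  · rw [← hci] at d2
    exact ((Nat.prime_two.dvd_mul).1 d2).resolve_right (hK.2 2 Nat.prime_two h2π)
  · rw [← hci] at d3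
    exact ((Nat.prime_three.dvd_mul).1 d3).resolve_right (hK.2 3 Nat.prime_three h3π)
  · intro x hx
    show pr e x ∈ H
    rw [(pr_eq_one e).2 hx]
    exact H.one_mem

/-- a nontrivial normal 2-subgroup -/
def TwoN {S : Type u} [Group S] (H : Subgroup S) : Prop :=
  ∃ N : Subgroup S, N ≤ H ∧ N ≠ ⊥ ∧ IsPGroup 2 N ∧ ∀ g ∈ H, ∀ n ∈ N, g * n * g⁻¹ ∈ N

theorem twoN_of_NTwo (e : S ≃* Cfsg.POmega F (⇑Q)) {H : Subgroup S} (h : NTwo (H.comap (pr e))) : TwoN H := by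
  obtain ⟨N, hN, h2, hn, n, hnN, hnc⟩ := h
  refine ⟨N.map (pr e), ?_, ?_, h2.map _, ?_⟩
  · rintro _ ⟨x, hx, rfl⟩
    exact hN hx
  · intro h0
    have h1 : pr e n ∈ N.map (pr e) := ⟨n, hnN, rfl⟩
    rw [h0, Subgroup.mem_bot, pr_eq_one] at h1
    exact hnc h1
  · rintro h hh _ ⟨x, hx, rfl⟩
    obtain ⟨g, rfl⟩ := pr_surjective e h
    exact ⟨g * x * g⁻¹, hn g hh x hx, by rw [map_mul, map_mul, map_inv]⟩

theorem NTwo_of_twoN (hq : GoodQ Q) (e : S ≃* Cfsg.POmega F (⇑Q)) {H : Subgroup S} (h : TwoN H) :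
    NTwo (H.comap (pr e)) := by
  obtain ⟨N, hN, h0, h2, hn⟩ := h
  refine ⟨N.comap (pr e), fun x hx => hN hx, ?_, fun g hg n hn' => ?_, ?_⟩
  · rintro ⟨x, hx⟩
    obtain ⟨k, hk⟩ := h2 ⟨pr e x, hx⟩
    refine ⟨k + 1, Subtype.ext ?_⟩
    show x ^ 2 ^ (k + 1) = 1
    have h1 : pr e (x ^ 2 ^ k) = 1 := by
      rw [map_pow]
      exact congrArg Subtype.val hk
    rw [pow_succ, pow_mul, pow_two]
    exact mul_self_of_pr hq e h1
  · show pr e (g * n * g⁻¹) ∈ N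
    rw [map_mul, map_mul, map_inv]
    exact hn _ hg _ hn'
  · obtain ⟨⟨n, hnN⟩, hn1'⟩ := (Subgroup.ne_bot_iff_exists_ne_one).1 h0
    have hn1 : n ≠ 1 := fun h => hn1' (Subtype.ext h)
    obtain ⟨x, rfl⟩ := pr_surjective e n
    exact ⟨x, hnN, fun hc => hn1 ((pr_eq_one e).2 hc)⟩

theorem twoN_smul {S : Type u} [Group S] {H : Subgroup S} (h : TwoN H) (φ : MulAut S) : TwoN (φ • H) := by
  obtain ⟨N, hN, h0, h2, hn⟩ := h
  refine ⟨φ • N, Subgroup.pointwise_smul_le_pointwise_smul_iff.2 hN, ?_, ?_, ?_⟩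
  · intro h
    apply h0
    have := congrArg (φ⁻¹ • ·) h
    simpa using this
  · exact h2.map (φ : S ≃* S).toMonoidHom
  · intro g hg n hn'
    obtain ⟨g', hg', rfl⟩ := (Subgroup.mem_smul_pointwise_iff_exists _ _ _).1 hg
    obtain ⟨n', hn'', rfl⟩ := (Subgroup.mem_smul_pointwise_iff_exists _ _ _).1 hn'
    refine (Subgroup.mem_smul_pointwise_iff_exists _ _ _).2 ⟨g' * n' * g'⁻¹, hn _ hg' _ hn'', ?_⟩
    simp

/-- conjugation of the stabiliser -/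
theorem conj_mem_StD {U U' : Fin 4 → Submodule F (ι → F)} {g : Cfsg.Omega F (⇑Q)}
    (hg : ∀ i, (U i).map (rep (inc (⇑Q)) g) = U' i) {x : Cfsg.Omega F (⇑Q)} (hx : x ∈ StD Q U) :
    g * x * g⁻¹ ∈ StD Q U' := by
  have hg' : ∀ i, (U' i).map (rep (inc (⇑Q)) g⁻¹) = U i := by
    intro i
    rw [← hg i, ← Submodule.map_comp, ← Module.End.mul_eq_comp, ← map_mul, inv_mul_cancel, map_one]
    exact Submodule.map_id _
  have key : ∀ y : Cfsg.Omega F (⇑Q), (∀ i, ∃ j, (U i).map (rep (inc (⇑Q)) y) = U j) →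
      ∀ i, ∃ j, (U' i).map (rep (inc (⇑Q)) (g * y * g⁻¹)) = U' j := by
    intro y hy i
    obtain ⟨j, hj⟩ := hy i
    refine ⟨j, ?_⟩
    rw [map_mul, map_mul, Module.End.mul_eq_comp, Submodule.map_comp, hg' i, Module.End.mul_eq_comp,
      Submodule.map_comp, hj, hg j]
  refine ⟨key x hx.1, ?_⟩
  have h1 : (g * x * g⁻¹)⁻¹ = g * x⁻¹ * g⁻¹ := by group
  rw [h1]
  exact key x⁻¹ hx.2

/-- **a Hall subgroup with `O₂ ≠ 1` has an invariant class** -/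
theorem fixC_of_twoN (hA : BoxA Q) (hB1 : BoxB1 Q) (hB2 : BoxB2 Q) (hq : Q8 Q) (hN : BoxN Q) {p : ℕ} [CharP F p]
    (hp : p.Prime) (hpπ : p ∉ π) (h2π : 2 ∈ π) (h3π : 3 ∈ π) (e : S ≃* Cfsg.POmega F (⇑Q)) {H : Subgroup S}
    (hH : IsPiHall π H) (hT : TwoN H) (φ : MulAut S) : FixC φ H := by
  have hfin : Finite (Cfsg.Omega F (⇑Q)) := inferInstance
  have hH' := isPiHall_smul hH φ
  obtain ⟨U, hU, hHU⟩ := hA _ (hd_of_hall hq hN hp hpπ h2π h3π e hH) (NTwo_of_twoN hq.gq e hT)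
  obtain ⟨U', hU', hHU'⟩ := hA _ (hd_of_hall hq hN hp hpπ h2π h3π e hH') (NTwo_of_twoN hq.gq e (twoN_smul hT φ))
  obtain ⟨g, hg⟩ := hB1 U U' hU hU'
  have hK := hall_comap hq.gq e h2π hH
  have hK' := hall_comap hq.gq e h2π hH'
  have h1 : MulAut.conj g • (H.comap (pr e)) ≤ StD Q U' := by
    intro y hy
    obtain ⟨x, hx, rfl⟩ := (Subgroup.mem_smul_pointwise_iff_exists _ _ _).1 hy
    exact conj_mem_StD hg (hHU hx)
  have hc := isPiHall_smul hK (MulAut.conj g)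
  have hof : ∀ Y : Subgroup (Cfsg.Omega F (⇑Q)), Y ≤ StD Q U' → IsPiHall π Y → IsPiHallOf π Y (StD Q U') :=
    fun Y hY hh => ⟨hY, hh.1, fun r hr hrπ hd => hh.2 r hr hrπ (hd.trans ⟨_, (Subgroup.relIndex_mul_index hY).symm⟩)⟩
  obtain ⟨m, -, hm⟩ := Cfsg.Agent.OddOrderLocal.HallPi.conj_of_isPiHallOf (hB2 U' hU') (hof _ h1 hc) (hof _ hHU' hK')
  refine fixC_iff.2 ⟨pr e (m * g), ?_⟩
  have h2 : MulAut.conj (m * g) • (H.comap (pr e)) = (φ • H).comap (pr e) := by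
    rw [map_mul, mul_smul]
    exact hm
  have h3 : ((φ • H).comap (pr e)).map (pr e) = φ • H := map_comap_eq_self_of_surjective (pr_surjective e) _
  have h4 : (H.comap (pr e)).map (pr e) = H := map_comap_eq_self_of_surjective (pr_surjective e) _
  rw [← h3, ← h2]
  conv_rhs => rw [← h4]
  ext y
  simp only [Subgroup.mem_map, Subgroup.mem_smul_pointwise_iff_exists]
  constructor
  · rintro ⟨_, ⟨x, hx, rfl⟩, rfl⟩
    exact ⟨pr e x, ⟨x, hx, rfl⟩, by simp⟩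
  · rintro ⟨_, ⟨x, hx, rfl⟩, rfl⟩
    exact ⟨_, ⟨x, hx, rfl⟩, by simp⟩

end Cfsg.Agent.H561.D4
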