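import Cfsg.Agent.H561.D4.Count
import Cfsg.Agent.H561.D4.Mid
import Cfsg.Agent.H561.D4.Hall
import Cfsg.Agent.S0296

/-!
# S4311, the row `PΩ₈⁺(q)` from the boxes (helper561)
-/

set_option autoImplicit false
set_option linter.unusedSectionVars false

namespace Cfsg.Agent.H561.D4

open Module QuadraticMap Cfsg.Agent.H167.OP Cfsg.Agent.H170.HL Cfsg.Agent.H170.HL.OmRow Cfsg.Agent.H556.Om
open Cfsg Subgroup Cfsg.Agent.H485.RV Cfsg.Agent.H561.RV
open scoped Pointwise

/-! ### transport of the row -/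

section transport

variable {S T : Type*} [Group S] [Group T]

theorem isPiHall_map_equiv {π : Set ℕ} (e : S ≃* T) {H : Subgroup S} (h : IsPiHall π H) :
    IsPiHall π (H.map e.toMonoidHom) := by
  have h1 : Nat.card (H.map e.toMonoidHom : Subgroup T) = Nat.card H := Nat.card_congr (e.subgroupMap H).toEquiv.symm
  have h2 : (H.map e.toMonoidHom).index = H.index := index_map_of_bijective e.bijective H
  exact ⟨fun p hp hd => h.1 p hp (h1 ▸ hd), fun p hp hpi hd => h.2 p hp hpi (h2 ▸ hd)⟩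

theorem fixC_map_equiv (e : S ≃* T) {φ : MulAut S} {H : Subgroup S} (h : FixC φ H) :
    FixC (MulAut.congr e φ) (H.map e.toMonoidHom) := by
  obtain ⟨s, hs⟩ := h
  refine ⟨e s, ?_⟩
  have h1 : ∀ ψ : MulAut S, (H.map e.toMonoidHom).map (MulAut.congr e ψ : T ≃* T).toMonoidHom =
      (H.map (ψ : S ≃* S).toMonoidHom).map e.toMonoidHom := by
    intro ψ
    rw [Subgroup.map_map, Subgroup.map_map]
    congr 1
    ext x
    show e (ψ (e.symm (e x))) = e (ψ x)
    rw [e.symm_apply_apply]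
  have h2 : (MulAut.conj (e s) : MulAut T) = MulAut.congr e (MulAut.conj s) := by
    ext x
    show e s * x * (e s)⁻¹ = e (s * e.symm x * s⁻¹)
    rw [map_mul, map_mul, map_inv, e.apply_symm_apply]
  rw [h1, hs, h2, h1]

/-- **`SRow` is invariant under isomorphisms** -/
theorem srow_of_equiv {π : Set ℕ} (e : S ≃* T) (h : SRow π T) : SRow π S := by
  intro X hX
  obtain ⟨K, hK, hKX⟩ := h (X.map (MulAut.congr e).toMonoidHom) (by
    intro r hr R hR hRr
    have hle : R.comap (MulAut.congr e).toMonoidHom ≤ X := by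
      intro φ hφ
      obtain ⟨ψ, hψ, he⟩ := hR hφ
      have : ψ = φ := (MulAut.congr e).injective he
      exact this ▸ hψ
    obtain ⟨H, hH, hHR⟩ := hX r hr (R.comap (MulAut.congr e).toMonoidHom) hle
      (hRr.comap_of_injective _ (MulAut.congr e).injective)
    refine ⟨_, isPiHall_map_equiv e hH, fun φ hφ => ?_⟩
    obtain ⟨ψ, rfl⟩ := (MulAut.congr e).surjective φ
    exact fixC_map_equiv e (hHR ψ hφ))
  refine ⟨_, isPiHall_map_equiv e.symm hK, fun φ hφ => ?_⟩
  have h1 := fixC_map_equiv e.symm (hKX (MulAut.congr e φ) ⟨φ, hφ, rfl⟩)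
  have h2 : MulAut.congr e.symm (MulAut.congr e φ) = φ := by
    ext x
    show e.symm (e (φ (e.symm (e x)))) = φ x
    rw [e.symm_apply_apply, e.symm_apply_apply]
  rwa [h2] at h1

end transport

/-- the centre of `PΩ₈⁺(2)` is trivial -/
theorem center_POmega82 : Subgroup.center (Cfsg.POmega (ZMod 2) (Cfsg.quadFormPlus 4 (ZMod 2))) = ⊥ := by
  have hs : IsSimpleGroup (Cfsg.POmega (ZMod 2) (Cfsg.quadFormPlus 4 (ZMod 2))) := Cfsg.Agent.S0296.result 4 le_rfl
  rcases IsSimpleGroup.eq_bot_or_eq_top_of_normal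
    (Subgroup.center (Cfsg.POmega (ZMod 2) (Cfsg.quadFormPlus 4 (ZMod 2)))) inferInstance with h | h
  · exact h
  · exfalso
    let i : CommGroup (Cfsg.POmega (ZMod 2) (Cfsg.quadFormPlus 4 (ZMod 2))) :=
      { (inferInstance : Group (Cfsg.POmega (ZMod 2) (Cfsg.quadFormPlus 4 (ZMod 2)))) with
        mul_comm := fun a b => (Subgroup.mem_center_iff.1 (h ▸ Subgroup.mem_top b) a) }
    have h1 : (Nat.card (Cfsg.POmega (ZMod 2) (Cfsg.quadFormPlus 4 (ZMod 2)))).Prime := @IsSimpleGroup.prime_card _ i hs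
    rw [card_POmega82] at h1
    revert h1
    norm_num

theorem center_of_equiv {X Y : Type*} [Group X] [Group Y] (e : X ≃* Y) (h : Subgroup.center Y = ⊥) :
    Subgroup.center X = ⊥ := by
  rw [eq_bot_iff]
  intro x hx
  have h1 : e x ∈ Subgroup.center Y := by
    rw [Subgroup.mem_center_iff]
    intro y
    obtain ⟨z, rfl⟩ := e.surjective y
    rw [← map_mul, ← map_mul, Subgroup.mem_center_iff.1 hx z]
  rw [h, Subgroup.mem_bot] at h1
  rw [Subgroup.mem_bot]
  exact e.injective (h1.trans (map_one e).symm)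

section row

variable {F : Type} [Field F] [Finite F] {ι : Type} [Fintype ι] [DecidableEq ι] {Q : QuadraticForm F (ι → F)}
  {π : Set ℕ}

/-- **the row of `PΩ₈⁺(q)`** -/
theorem srow_of_boxes (hq : Q8 Q) (hN : BoxN Q) (hA : BoxA Q) (hB1 : BoxB1 Q) (hB2 : BoxB2 Q) (hC : BoxC Q)
    (hD : ¬ 2 ^ 14 ∣ Nat.card (Cfsg.Omega F (⇑Q)) → BoxD (Cfsg.POmega F (⇑Q)))
    (hD1 : ∀ (T : Type) [Group T] [Finite T], T ≃* Cfsg.POmega (ZMod 2) (Cfsg.quadFormPlus 4 (ZMod 2)) → BoxD1 T)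
    {p : ℕ} [CharP F p] (hp : p.Prime) (hpπ : p ∉ π) (h2π : 2 ∈ π) (h3π : 3 ∈ π) : SRow π (Cfsg.POmega F (⇑Q)) := by
  have hfin : Finite (Cfsg.Omega F (⇑Q)) := inferInstance
  let e : Cfsg.POmega F (⇑Q) ≃* Cfsg.POmega F (⇑Q) := MulEquiv.refl _
  by_cases hT : ∃ H : Subgroup (Cfsg.POmega F (⇑Q)), IsPiHall π H ∧ TwoN H
  · obtain ⟨H, hH, hT⟩ := hT
    exact fun X _ => ⟨H, hH, fun φ _ => fixC_of_twoN hA hB1 hB2 hq hN hp hpπ h2π h3π e hH hT φ⟩
  · push Not at hT
    apply srow_of_four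
    by_cases hne : ∃ H : Subgroup (Cfsg.POmega F (⇑Q)), IsPiHall π H
    · obtain ⟨H₀, hH₀⟩ := hne
      have key : ∀ H : Subgroup (Cfsg.POmega F (⇑Q)), IsPiHall π H →
          Nonempty (H ≃* Cfsg.POmega (ZMod 2) (Cfsg.quadFormPlus 4 (ZMod 2))) ∧
            ¬ 2 ^ 14 ∣ Nat.card (Cfsg.Omega F (⇑Q)) := by
        intro H hH
        obtain ⟨⟨f⟩, h14⟩ := hC _ (hd_of_hall hq hN hp hpπ h2π h3π e hH) (fun h => hT H hH (twoN_of_NTwo e h))
        refine ⟨⟨?_⟩, h14⟩
        have h1 : (H.comap (pr e)).map (QuotientGroup.mk' (Subgroup.center (Cfsg.Omega F (⇑Q)))) = H := by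
          have h2 : pr e = QuotientGroup.mk' (Subgroup.center (Cfsg.Omega F (⇑Q))) := MonoidHom.ext fun _ => rfl
          conv_lhs => rw [← h2]
          exact map_comap_eq_self_of_surjective (pr_surjective e) _
        exact (MulEquiv.subgroupCongr h1).symm.trans f
      obtain ⟨P, z, hz1, hzP, hZ, hN'⟩ := hD (key H₀ hH₀).2
      refine (ncard_cls_le h2π P).trans (ncard_le_four hz1 hzP hZ hN' ?_)
      rintro H ⟨hH, hPH⟩
      obtain ⟨f⟩ := (key H hH).1
      exact ⟨hPH, center_of_equiv f center_POmega82, hD1 H f⟩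
    · have h1 : Cls π (Cfsg.POmega F (⇑Q)) = ∅ := by
        rw [Set.eq_empty_iff_forall_notMem]
        rintro _ ⟨H, hH, -⟩
        exact hne ⟨H, hH⟩
      rw [h1, Set.ncard_empty]
      omega

end row

end Cfsg.Agent.H561.D4
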