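import Cfsg.Agent.H561.D4.Low
import Cfsg.Agent.H561.D4.Row
import Cfsg.Agent.H286.RV.BoxD2
import Cfsg.Agent.H583.D4.BoxD1
import Cfsg.Agent.H358.D4.BoxA
import Cfsg.Agent.H551.D4.BoxB
import Cfsg.Agent.H1.D4.BoxCOne
import Cfsg.Agent.H982.DfThree

/-!
# S4311, the row `PΩ₈⁺(q)` modulo BOX C2 (helper561)
-/

set_option autoImplicit false

namespace Cfsg.Agent.H561.D4

open Cfsg Subgroup Cfsg.Agent.H561.RV

universe u

/-- **the `S`-row of `PΩ₈⁺(q)`** -/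
theorem srow_d4_of {S : Type u} [Group S] {π : Set ℕ} (h2π : 2 ∈ π) (h3π : 3 ∈ π) {p : ℕ} (hp : p.Prime) (hpπ : p ∉ π) {F : Type}
    [Field F] [Finite F] [CharP F p] (hC2 : BoxC2 F) (e : S ≃* Cfsg.POmega F (Cfsg.quadFormPlus 4 F)) : SRow π S := by
  have h2 : (2 : F) ≠ 0 := by
    intro h
    have h1 : ((2 : ℕ) : F) = 0 := by exact_mod_cast h
    rw [CharP.cast_eq_zero_iff F p, Nat.prime_dvd_prime_iff_eq hp Nat.prime_two] at h1
    exact hpπ (h1 ▸ h2π)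
  have h3 : (3 : F) ≠ 0 := by
    intro h
    have h1 : ((3 : ℕ) : F) = 0 := by exact_mod_cast h
    rw [CharP.cast_eq_zero_iff F p, Nat.prime_dvd_prime_iff_eq hp Nat.prime_three] at h1
    exact hpπ (h1 ▸ h3π)
  have : Fintype F := Fintype.ofFinite F
  have hq : Q8 (Cfsg.Agent.LieClassical.OrthForms.plusForm 4 F) := H473.D4.q8_plus h2 h3
  have hN : BoxN (Cfsg.Agent.LieClassical.OrthForms.plusForm 4 F) := H473.D4.boxN hq
  have hZ : BoxZ (Cfsg.Agent.LieClassical.OrthForms.plusForm 4 F) := H473.D4.boxZ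
  have key : SRow π (Cfsg.POmega F (⇑(Cfsg.Agent.LieClassical.OrthForms.plusForm 4 F))) :=
    srow_of_boxes hq hN (H358.D4.boxA' hN) (H551.D4.boxB1 hq) (H551.D4.boxB2 hq)
      (boxC_of (H1.D4.boxC1 hZ) hC2 hN)
      (boxD_of hq hZ H286.RV.boxD2 (H982.DfPsi.boxD3 hN) (H778.D4.boxD4 hN hZ))
      (fun T _ _ f => H583.D4.boxD1 f) hp hpπ h2π h3π
  rw [Cfsg.Agent.LieClassical.OrthForms.coe_plusForm] at key
  exact srow_of_equiv e key

end Cfsg.Agent.H561.D4
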