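import Cfsg.Agent.H778.D4.BoxDFour
import Cfsg.Agent.H473.D4.BoxN
import Cfsg.Agent.H561.D4.Count

/-!
# S4311, the row `PΩ₈⁺(q)`: BOX D from D2, D3, D4; BOX C from C1, C2, N (helper561)
-/

set_option autoImplicit false
set_option linter.unusedSectionVars false

namespace Cfsg.Agent.H561.D4

open Module QuadraticMap Cfsg.Agent.H167.OP Cfsg.Agent.H170.HL Cfsg.Agent.H170.HL.OmRow Cfsg.Agent.H556.Om
open Cfsg Subgroup Cfsg.Agent.H485.RV Cfsg.Agent.H561.RV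

variable {F : Type} [Field F] {ι : Type} [Fintype ι] [DecidableEq ι] {Q : QuadraticForm F (ι → F)}

/-- an overgroup of index three is generated by an element of order three -/
theorem exists_cube {S : Type*} [Group S] [Finite S] {P M : Subgroup S} (hP : IsPGroup 2 P) (hPM : P ≤ M)
    (h3 : P.relIndex M = 3) : ∃ y ∈ M, y ^ 3 = 1 ∧ M = P ⊔ zpowers y := by
  have h1 := Subgroup.card_mul_index (P.subgroupOf M)
  have hcM : Nat.card (P.subgroupOf M) = Nat.card P := Nat.card_congr (Subgroup.subgroupOfEquivOfLe hPM).toEquiv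
  have h3' : (P.subgroupOf M).index = 3 := h3
  rw [hcM, h3'] at h1
  obtain ⟨k, hk⟩ := hP.exists_card_eq
  have := Fact.mk Nat.prime_three
  obtain ⟨⟨y, hyM⟩, hy⟩ := exists_prime_orderOf_dvd_card' (G := M) 3 (Dvd.intro_left _ h1)
  have hy' : orderOf y = 3 := by
    rw [← hy, ← Subgroup.orderOf_coe]
  refine ⟨y, hyM, by rw [← hy', pow_orderOf_eq_one], ?_⟩
  have hle : P ⊔ zpowers y ≤ M := sup_le hPM (by rwa [zpowers_le])
  refine (Subgroup.eq_of_le_of_card_ge hle ?_).symm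
  have h4 : Nat.card P ∣ Nat.card (P ⊔ zpowers y : Subgroup S) := card_dvd_of_le le_sup_left
  have h5 : 3 ∣ Nat.card (P ⊔ zpowers y : Subgroup S) := by
    have h6 : Nat.card (zpowers y) ∣ Nat.card (P ⊔ zpowers y : Subgroup S) := card_dvd_of_le le_sup_right
    rwa [Nat.card_zpowers, hy'] at h6
  have h6 : Nat.Coprime (Nat.card P) 3 := by
    rw [hk]
    exact Nat.Coprime.pow_left _ (by decide)
  rw [← h1]
  exact Nat.le_of_dvd Nat.card_pos (h6.mul_dvd_of_dvd_of_dvd h4 h5)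

/-- **BOX D** -/
theorem boxD_of [Finite F] (h : Q8 Q) (hZ : BoxZ Q) (h2 : BoxD2 (Cfsg.POmega F (⇑Q))) (h3 : BoxD3 Q) (h4 : BoxD4 Q)
    (h14 : ¬ 2 ^ 14 ∣ Nat.card (Cfsg.Omega F (⇑Q))) : BoxD (Cfsg.POmega F (⇑Q)) := by
  have hfin : Finite (Cfsg.Omega F (⇑Q)) := inferInstance
  obtain ⟨E, hF⟩ := h.frame
  obtain ⟨⟨z, hz⟩, -⟩ := hZ h E hF
  obtain ⟨v, hv⟩ := H778.D4.exists_v h hF
  have H := H778.D4.hyp h hZ hF hz hv h14
  obtain ⟨L, hL, hy⟩ := h3 h E hF z hz h14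
  let P : Sylow 2 (Cfsg.POmega F (⇑Q)) := ⟨PMS h.two hF, H.two, fun {R} hR hle => le_antisymm (H.max R hR hle) hle⟩
  have hPP : (P : Subgroup (Cfsg.POmega F (⇑Q))) = PMS h.two hF := rfl
  refine ⟨P, QuotientGroup.mk z, H.ne, H.mem, ?_, h4 h E hF z hz h14⟩
  refine (Set.encard_le_encard ?_).trans (h2 P L hL)
  rintro M ⟨hPM, h3, hc⟩
  refine ⟨hPM, h3, ?_⟩
  obtain ⟨y, hyM, hy3, hM⟩ := exists_cube P.isPGroup' hPM h3
  rw [hM]
  refine sup_le_sup_left ?_ _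
  rw [zpowers_le]
  exact hy y hy3 (hc y hyM)

end Cfsg.Agent.H561.D4
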