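import Cfsg.Agent.H561.D4.Boxes

/-!
# S4311, the row `PΩ₈⁺(q)`: (r3) for subgroups of `Ω` (from helper556's `exists_invol`) (helper561)
-/

set_option autoImplicit false
set_option linter.unusedSectionVars false

namespace Cfsg.Agent.H561.D4

open Module QuadraticMap Cfsg.Agent.H167.OP Cfsg.Agent.H170.HL Cfsg.Agent.H170.HL.OmRow Cfsg.Agent.H556.Om
open Cfsg Subgroup Cfsg.Agent.H485.RV Cfsg.Agent.H561.RV

variable {F : Type} [Field F] {ι : Type} [Fintype ι] [DecidableEq ι] {Q : QuadraticForm F (ι → F)}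

/-- (r3) -/
def R3 (Q : QuadraticForm F (ι → F)) : Prop :=
  ∀ (H R : Subgroup (Cfsg.Omega F (⇑Q))) (r : ℕ), ¬ 2 ∣ H.index → (Nat.card H : F) ≠ 0 → r.Prime → r ≠ 2 → R ≤ H →
    R ≠ ⊥ → IsPGroup r R → (∀ g ∈ H, ∀ x ∈ R, g * x * g⁻¹ ∈ R) → NTwo H

theorem r3 [Finite F] (hQ : GoodQ Q) (h2 : (2 : F) ≠ 0) (hN : 5 ≤ Fintype.card ι) : R3 Q := by
  intro H R r hidx hcard hr hr2 hRH hR0 hRr hRn
  have hfin : Finite (Cfsg.Omega F (⇑Q)) := inferInstance
  have := Fact.mk hr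
  have hRnt : Nontrivial R := (Subgroup.nontrivial_iff_ne_bot R).mpr hR0
  have hZ : Nontrivial (Subgroup.center R) := hRr.center_nontrivial
  let C : Subgroup (Cfsg.Omega F (⇑Q)) := (Subgroup.center R).map R.subtype
  have hCR : C ≤ R := Subgroup.map_subtype_le _
  have hC1 : C ≠ ⊥ := by
    intro h
    rw [Subgroup.map_eq_bot_iff_of_injective _ R.subtype_injective] at h
    exact (Subgroup.nontrivial_iff_ne_bot _).mp hZ h
  have hCB' : ∀ c ∈ C, ∀ b ∈ R, c * b = b * c := by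
    rintro _ ⟨c, hc, rfl⟩ b hb
    exact (congrArg Subtype.val (Subgroup.mem_center_iff.mp hc ⟨b, hb⟩)).symm
  have hCn : ∀ h ∈ H, ∀ c ∈ C, h * c * h⁻¹ ∈ C := by
    intro h hh c hc
    have h1 : h * c * h⁻¹ ∈ R := hRn h hh c (hCR hc)
    refine ⟨⟨h * c * h⁻¹, h1⟩, ?_, rfl⟩
    rw [SetLike.mem_coe, Subgroup.mem_center_iff]
    rintro ⟨b, hb⟩
    apply Subtype.ext
    show b * (h * c * h⁻¹) = h * c * h⁻¹ * b
    have h3 : h⁻¹ * b * h ∈ R := by
      have := hRn h⁻¹ (H.inv_mem hh) b hb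
      rwa [inv_inv] at this
    have h4 := hCB' c hc _ h3
    calc b * (h * c * h⁻¹) = h * (h⁻¹ * b * h * c) * h⁻¹ := by group
      _ = h * (c * (h⁻¹ * b * h)) * h⁻¹ := by rw [h4]
      _ = h * c * h⁻¹ * b := by group
  let A : Subgroup H := C.subgroupOf H
  have hAn : A.Normal := ⟨fun a ha g => hCn g g.2 a ha⟩
  have hCH : C ≤ H := hCR.trans hRH
  have hcA : Nat.card A = Nat.card C := Nat.card_congr (Subgroup.subgroupOfEquivOfLe hCH).toEquiv
  have hA1 : A ≠ ⊥ := by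
    intro h
    apply hC1
    rw [← Subgroup.card_eq_one, ← hcA, h, Subgroup.card_bot]
  have hAa : ∀ a ∈ A, ∀ b ∈ A, a * b = b * a := fun a ha b hb => Subtype.ext (hCB' a ha b (hCR hb))
  have hAo : Odd (Nat.card A) := by
    rw [hcA]
    obtain ⟨m, hm⟩ := (hRr.to_le hCR).exists_card_eq
    rw [hm]
    exact (hr.odd_of_ne_two hr2).pow
  obtain ⟨z, hz1, hz2, ⟨v, hv0, hv⟩, w, hw0, hw⟩ := Cfsg.Agent.H556.OddCore.exists_invol hQ h2 hN hidx hcard hA1 hAa hAo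
  obtain ⟨N, hN1, hzN, hN2⟩ := Cfsg.Agent.H556.OddCore.exists_normal hz1 hz2
  refine ⟨N.map H.subtype, Subgroup.map_subtype_le _, hN2.map _, ?_, z, ⟨z, hzN, rfl⟩, ?_⟩
  · rintro g hg _ ⟨n, hn, rfl⟩
    have h1 : (⟨g, hg⟩ : H) * n * (⟨g, hg⟩ : H)⁻¹ ∈ N := hN1.conj_mem n hn ⟨g, hg⟩
    have h2 : H.subtype ((⟨g, hg⟩ : H) * n * (⟨g, hg⟩ : H)⁻¹) = g * H.subtype n * g⁻¹ := by
      rw [map_mul, map_mul, map_inv, Subgroup.subtype_apply]
    rw [← h2]
    exact Subgroup.mem_map_of_mem _ h1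
  · intro hc
    have h0 : inc (⇑Q) (z : Cfsg.Omega F (⇑Q)) = 1 ∨ inc (⇑Q) (z : Cfsg.Omega F (⇑Q)) = -1 :=
      (Cfsg.Agent.LieClassical.OmegaCenter.mem_center_omega_iff Q hQ.nd hQ.card hQ.sing
      (z : Cfsg.Omega F (⇑Q))).mp hc
    rcases h0 with h3 | h3
    · have h4 : rep (inc (⇑Q)) (z : Cfsg.Omega F (⇑Q)) w = w := by
        have h5 : (z : Cfsg.Omega F (⇑Q)) = 1 := inc_injective (h3.trans (map_one _).symm)
        rw [h5, map_one, Module.End.one_apply]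
      rw [hw] at h4
      have h5 : (2 : F) • w = 0 := by
        rw [two_smul]
        nth_rewrite 1 [← h4]
        exact neg_add_cancel w
      exact hw0 ((smul_eq_zero.mp h5).resolve_left h2)
    · have h4 : rep (inc (⇑Q)) (z : Cfsg.Omega F (⇑Q)) v = -v := by
        rw [rep_apply, h3, Matrix.neg_mulVec, Matrix.one_mulVec]
      rw [hv] at h4
      have h5 : (2 : F) • v = 0 := by
        rw [two_smul]
        nth_rewrite 1 [h4]
        exact neg_add_cancel v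
      exact hv0 ((smul_eq_zero.mp h5).resolve_left h2)

end Cfsg.Agent.H561.D4
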